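import Cfsg.Agent.H624.KS.Props

/-!
# S4577, type A: the abstract frame for `GL_n` and `GU_n` (helper624)

`ι : G → A` an embedding into the unit group of a ring, `Ad a a'` : `a'` is an adjoint of `a` (`GL_n` : no condition,
`GU_n` : `a' = a^*`); an element `a` with an adjoint which is its inverse comes from `G`. `X` is the kernel of a
multiplicative map `Det` of `A`.
-/

set_option autoImplicit false

open Cfsg Subgroup Cfsg.Agent.H613.KS

namespace Cfsg.Agent.H624.KS

universe u v w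

/-- the frame -/
structure Frame (G : Type u) [Group G] (A : Type v) [Ring A] where
  ι : G →* A
  inj : Function.Injective ι
  Ad : A → A → Prop
  ad_ι : ∀ g : G, Ad (ι g) (ι g⁻¹)
  ad_add : ∀ {a a' b b' : A}, Ad a a' → Ad b b' → Ad (a + b) (a' + b')
  ad_mul : ∀ {a a' b b' : A}, Ad a a' → Ad b b' → Ad (a * b) (b' * a')
  ad_neg : ∀ {a a' : A}, Ad a a' → Ad (-a) (-a')
  lift : ∀ {a a' : A}, Ad a a' → a * a' = 1 → a' * a = 1 → ∃ g : G, ι g = a
  /-- `1/2` -/
  h : A
  h_add : h + h = 1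
  h_comm : ∀ a : A, h * a = a * h
  ad_h : Ad h h
  neg_ne : (-1 : A) ≠ 1
  /-- the only central involution is `-1` -/
  cent : ∀ z : G, (∀ g : G, g * z = z * g) → z * z = 1 → z = 1 ∨ ι z = -1

/-- two central skew elements with `α ^ 2 + β ^ 2 = -1` -/
structure Frame.Sk {G : Type u} [Group G] {A : Type v} [Ring A] (Φ : Frame G A) where
  α : A
  β : A
  α_comm : ∀ a : A, α * a = a * α
  β_comm : ∀ a : A, β * a = a * β
  sq : α * α + β * β = -1
  ad_α : Φ.Ad α (-α)
  ad_β : Φ.Ad β (-β)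

/-- `X` is the kernel of the determinant -/
structure Frame.Dt {G : Type u} [Group G] {A : Type v} [Ring A] (Φ : Frame G A) (X : Subgroup G) (C : Type w)
    [CommMonoid C] where
  Det : A →* C
  mem : ∀ g : G, g ∈ X ↔ Det (Φ.ι g) = 1

section

variable {G : Type u} [Group G] {A : Type v} [Ring A] (Φ : Frame G A)

theorem Frame.ι_inv_mul (g : G) : Φ.ι g⁻¹ * Φ.ι g = 1 := by
  rw [← map_mul, inv_mul_cancel, map_one]

theorem Frame.ι_mul_inv (g : G) : Φ.ι g * Φ.ι g⁻¹ = 1 := by
  rw [← map_mul, mul_inv_cancel, map_one]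

theorem Frame.ad_one : Φ.Ad 1 1 := by
  have := Φ.ad_ι 1
  rwa [inv_one, map_one] at this

theorem Frame.ad_neg_one : Φ.Ad (-1) (-1) := Φ.ad_neg Φ.ad_one

theorem Frame.h_two : Φ.h * 2 = 1 := by
  rw [mul_two, Φ.h_add]

theorem Frame.two_h : 2 * Φ.h = 1 := by
  rw [two_mul, Φ.h_add]

include Φ in
/-- `2 a = 0` implies `a = 0` -/
theorem Frame.eq_zero {a : A} (ha : a + a = 0) : a = 0 := by
  have : (Φ.h + Φ.h) * a = 0 := by
    rw [add_mul, ← mul_add, ha, mul_zero]
  rwa [Φ.h_add, one_mul] at this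

end

end Cfsg.Agent.H624.KS
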