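import Cfsg.Agent.H613.KS.Defs
import Cfsg.Prelude.Def_LieClassical
import Cfsg.Agent.H107.AutU.Main

/-!
# S4577, type A: interfaces (helper624)

`G = GL_n(F)` or `GU_n(q)`, `X = SL_n`, `SU_n` (kernel of the determinant), `π : X → K` onto with central kernel.

* `MaxX X P x` : `P` is a 2-group commuting with the element `x` of odd order, and `P ⊓ X` is a maximal 2-subgroup of
  `X` commuting with `x`.
* `StrD X π x D` : `D ≤ X` a maximal 2-subgroup of `X` commuting with `x` whose image in `K` is `2^4` with an irreducible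
  5-element: `D` is commutative and generated by involutions and elements of `ker π`.   (T5: helper21)
* `GS X π` : such a `P` is commutative.   (T2: from T5)
* `SW G` : the swap.   (T1: helper21)
-/

set_option autoImplicit false

open Cfsg Subgroup Cfsg.Agent.H613.KS

namespace Cfsg.Agent.H624.KS

universe u v

section

variable {G : Type u} [Group G]

/-- `g` normalises `P` -/
def Nor (P : Subgroup G) (g : G) : Prop := ∀ d : G, g * d * g⁻¹ ∈ P ↔ d ∈ P

/-- `g` fixes the class function `θ` of `C_G(P)` -/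
def Fix (P : Subgroup G) (θ : ↥(centralizer (P : Set G)) → ℂ) (g : G) : Prop :=
  ∀ c c' : ↥(centralizer (P : Set G)), (c' : G) = g * c * g⁻¹ → θ c' = θ c

/-- T1, the swap: `P` is a commutative maximal 2-subgroup of `C_G(x)`, `x` of odd order, `θ` an irreducible character of
`C_G(P)`; if an element of odd order normalises `P`, does not centralise it and fixes `θ`, then some involution does. -/
def SW (G : Type u) [Group G] : Prop :=
  ∀ (P : Subgroup G) (x : G), IsPGroup 2 P → (∀ a ∈ P, ∀ b ∈ P, a * b = b * a) → Odd (orderOf x) →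
    (∀ p ∈ P, p * x = x * p) →
    (∀ Q : Subgroup G, IsPGroup 2 Q → P ≤ Q → (∀ q ∈ Q, q * x = x * q) → Q ≤ P) →
    ∀ θ : IrrCharacter ↥(centralizer (P : Set G)), ∀ g : G, Nor P g → Odd (orderOf g) →
      Fix P (θ : ↥(centralizer (P : Set G)) → ℂ) g → (∃ p ∈ P, g * p ≠ p * g) →
      ∃ s : G, Nor P s ∧ s * s = 1 ∧ Fix P (θ : ↥(centralizer (P : Set G)) → ℂ) s ∧ ∃ p ∈ P, s * p ≠ p * s

variable (X : Subgroup G) {K : Type v} [Group K] (π : X →* K)

/-- T5: the structure of `D` -/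
def StrD : Prop :=
  ∀ (D : Subgroup G) (x : G), D ≤ X → IsPGroup 2 D → Odd (orderOf x) → (∀ d ∈ D, d * x = x * d) →
    (∀ Q : Subgroup G, Q ≤ X → IsPGroup 2 Q → D ≤ Q → (∀ q ∈ Q, q * x = x * q) → Q ≤ D) →
    E16 ((D.subgroupOf X).map π) → (∃ y : K, Five ((D.subgroupOf X).map π) y) →
    (∀ a ∈ D, ∀ b ∈ D, a * b = b * a) ∧
      ∀ d ∈ D, ∃ z : X, (z : G) ∈ D ∧ π z = 1 ∧ (d * z) * (d * z) = 1

/-- T2: `P` is commutative -/
def GS : Prop :=
  ∀ (P : Subgroup G) (x : G), IsPGroup 2 P → Odd (orderOf x) → (∀ p ∈ P, p * x = x * p) →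
    (∀ Q : Subgroup G, Q ≤ X → IsPGroup 2 Q → (∀ q ∈ Q, q * x = x * q) →
      ∃ c ∈ X, c * x = x * c ∧ ∀ q ∈ Q, c * q * c⁻¹ ∈ P) →
    E16 ((P.subgroupOf X).map π) → (∃ y : K, Five ((P.subgroupOf X).map π) y) →
    ∀ a ∈ P, ∀ b ∈ P, a * b = b * a

end

/-- `SL_n(F)` as a subgroup of `GL_n(F)` -/
abbrev slG (n : ℕ) (F : Type*) [Field F] : Subgroup (Matrix.GeneralLinearGroup (Fin n) F) :=
  (Matrix.GeneralLinearGroup.det : Matrix.GeneralLinearGroup (Fin n) F →* Fˣ).ker

/-- `SU_n(q)` as a subgroup of `GU_n(q)` -/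
abbrev suG (n : ℕ) (F : Type*) [Field F] (q : ℕ) : Subgroup (GU n F q) :=
  (Cfsg.Agent.H107.AutU.dt n F q).ker

end Cfsg.Agent.H624.KS
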