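import Cfsg.Agent.H624.KS.Frame

/-!
# S4577, type A, T5: the structure of `D` (helper624)

`Frame.strD` : a maximal 2-subgroup `D` of `X` commuting with `x` whose image in `K` is `2^4` with an irreducible
5-element is commutative and generated by involutions and elements of the kernel.
-/

set_option autoImplicit false
set_option linter.unusedSectionVars false
set_option linter.style.haveILetI false

open Cfsg Subgroup Cfsg.Agent.H613.KS

namespace Cfsg.Agent.H624.KS

universe u v w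

section

variable {G : Type u} [Group G] [Finite G] {A : Type v} [Ring A] (Φ : Frame G A) {X : Subgroup G}
  {K : Type w} [Group K] (π : X →* K)

/-- the situation -/
structure SD (D : Subgroup G) (x : G) (y : K) (Y : X) : Prop where
  hker : ∀ z : X, π z = 1 → ∀ g : G, g * z = z * g
  le : D ≤ X
  pg : IsPGroup 2 D
  odd : Odd (orderOf x)
  comm : ∀ d ∈ D, d * x = x * d
  max : ∀ Q : Subgroup G, Q ≤ X → IsPGroup 2 Q → D ≤ Q → (∀ q ∈ Q, q * x = x * q) → Q ≤ D
  e16 : E16 ((D.subgroupOf X).map π)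
  five : Five ((D.subgroupOf X).map π) y
  hY : π Y = y

variable {π} {D : Subgroup G} {x : G} {y : K} {Y : X}

theorem mem_img {d : X} (hd : (d : G) ∈ D) : π d ∈ (D.subgroupOf X).map π :=
  ⟨d, by simpa [mem_subgroupOf] using hd, rfl⟩

namespace SD

variable (S : SD π D x y Y)

include S

theorem exp {d : X} (hd : (d : G) ∈ D) : π (d * d) = 1 := by
  rw [map_mul]
  exact S.e16.inv _ (mem_img hd)

/-- the image is commutative -/
theorem img_comm {a b : X} (ha : (a : G) ∈ D) (hb : (b : G) ∈ D) : π a * π b = π b * π a := by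
  have h1 := S.e16.inv _ (mem_img (π := π) ha)
  have h2 := S.e16.inv _ (mem_img (π := π) hb)
  have h3 := S.e16.inv _ (mem_img (π := π) (D := D) (d := a * b) (by
    rw [coe_mul]
    exact D.mul_mem ha hb))
  rw [map_mul] at h3
  have h1' : (π a)⁻¹ = π a := inv_eq_of_mul_eq_one_left h1
  have h2' : (π b)⁻¹ = π b := inv_eq_of_mul_eq_one_left h2
  have h3' : (π a * π b)⁻¹ = π a * π b := inv_eq_of_mul_eq_one_left h3
  rw [mul_inv_rev, h1', h2'] at h3'
  exact h3'.symm

/-- the 2-elements of the kernel are in `D` -/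
theorem mem_of_ker {z : X} (hz : π z = 1) {k : ℕ} (hk : (z : G) ^ 2 ^ k = 1) : (z : G) ∈ D := by
  have hc := S.hker z hz
  haveI : (zpowers (z : G)).Normal := by
    constructor
    rintro n ⟨j, rfl⟩ g
    refine ⟨j, ?_⟩
    have : g * (z : G) ^ j = (z : G) ^ j * g := by
      have h1 : Commute g (z : G) := hc g
      exact (h1.zpow_right j).eq
    change (z : G) ^ j = g * (z : G) ^ j * g⁻¹
    rw [this, mul_inv_cancel_right]
  have hzp : IsPGroup 2 (zpowers (z : G)) := by
    rintro ⟨_, ⟨j, rfl⟩⟩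
    refine ⟨k, ?_⟩
    apply Subtype.ext
    change ((z : G) ^ j) ^ 2 ^ k = 1
    rw [← zpow_natCast, ← zpow_mul, mul_comm, zpow_mul, zpow_natCast, hk, one_zpow]
  have hQ : IsPGroup 2 ↥(D ⊔ zpowers (z : G)) := S.pg.to_sup_of_normal_right hzp
  have h1 : D ⊔ zpowers (z : G) ≤ X := sup_le S.le (by rw [zpowers_le]; exact z.2)
  have h2 : ∀ q ∈ D ⊔ zpowers (z : G), q * x = x * q := by
    have h3 : D ⊔ zpowers (z : G) ≤ centralizer {x} := by
      refine sup_le ?_ ?_
      · intro d hd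
        rw [mem_centralizer_singleton_iff]
        exact S.comm d hd
      · rw [zpowers_le, mem_centralizer_singleton_iff]
        exact (hc x).symm
    intro q hq
    exact mem_centralizer_singleton_iff.1 (h3 hq)
  exact S.max _ h1 hQ le_sup_left h2 (mem_sup_right (mem_zpowers _))

/-- `y` has no fixed points -/
theorem nofix {v : K} (hv : v ∈ (D.subgroupOf X).map π) (h : y * v * y⁻¹ = v) : v = 1 := by
  have hv2 := S.e16.inv v hv
  have h1 : zpowers v ≤ (D.subgroupOf X).map π := by rwa [zpowers_le]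
  have h2 : ∀ a ∈ zpowers v, y * a * y⁻¹ ∈ zpowers v := by
    rintro _ ⟨j, rfl⟩
    refine ⟨j, ?_⟩
    change v ^ j = y * v ^ j * y⁻¹
    have h3 : Commute y v := by
      change y * v = v * y
      rw [← mul_inv_eq_iff_eq_mul]
      exact h
    rw [(h3.zpow_right j).eq, mul_inv_cancel_right]
  rcases S.five.irr _ h1 h2 with h3 | h3
  · exact (zpowers_eq_bot.1 h3)
  · exfalso
    have h4 := S.e16.card
    rw [← h3, Nat.card_zpowers] at h4
    have h5 : orderOf v ∣ 2 := orderOf_dvd_of_pow_eq_one (by rw [pow_two]; exact hv2)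
    rw [h4] at h5
    exact absurd h5 (by decide)

theorem nofix_pow {v : K} (hv : v ∈ (D.subgroupOf X).map π) {j : ℕ} (hj : j.Coprime 5)
    (h : y ^ j * v * (y ^ j)⁻¹ = v) : v = 1 := by
  obtain ⟨m, hm⟩ := S.five.five
  have h1 : j.Coprime (orderOf y) := by
    rw [hm]
    exact hj.pow_right m
  obtain ⟨k, hk⟩ := exists_pow_eq_self_of_coprime h1
  apply S.nofix hv
  have h3 : Commute (y ^ j) v := by
    change y ^ j * v = v * y ^ j
    rw [← mul_inv_eq_iff_eq_mul]
    exact h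
  have h4 := h3.pow_left k
  rw [hk] at h4
  rw [h4.eq, mul_inv_cancel_right]

/-- `Y` normalises `D` -/
theorem conj_mem {d : G} (hd : d ∈ D) : (Y : G) * d * (Y : G)⁻¹ ∈ D := by
  have hdX := S.le hd
  set d' : X := ⟨d, hdX⟩ with hd'
  have h1 : π (Y * d' * Y⁻¹) ∈ (D.subgroupOf X).map π := by
    rw [map_mul, map_mul, map_inv, S.hY]
    exact (S.five.norm _).2 (mem_img hd)
  obtain ⟨d₁, hd₁, he⟩ := h1
  have hd₁' : (d₁ : G) ∈ D := by simpa [mem_subgroupOf] using hd₁
  set z : X := d₁⁻¹ * (Y * d' * Y⁻¹) with hz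
  have hz1 : π z = 1 := by
    rw [hz, map_mul, map_inv, he, inv_mul_cancel]
  have hzc : ∀ g : X, g * z = z * g := fun g => Subtype.ext (S.hker z hz1 g)
  obtain ⟨n, hn⟩ := IsPGroup.iff_card.1 S.pg
  have hpow : ∀ a : X, (a : G) ∈ D → a ^ 2 ^ n = 1 := by
    intro a ha
    have := pow_card_eq_one' (x := (⟨(a : G), ha⟩ : D))
    rw [hn] at this
    have h2 := congrArg (fun t : D => (t : G)) this
    exact Subtype.ext (by simpa using h2)
  have h2 : Y * d' * Y⁻¹ = d₁ * z := by rw [hz, mul_inv_cancel_left]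
  have h3 : (Y * d' * Y⁻¹) ^ 2 ^ n = 1 := by
    rw [conj_pow, hpow d' hd, mul_one, mul_inv_cancel]
  have h4 : z ^ 2 ^ n = 1 := by
    have h5 : (d₁ * z) ^ 2 ^ n = d₁ ^ 2 ^ n * z ^ 2 ^ n := (Commute.mul_pow (hzc d₁) _)
    rw [← h2, h3, hpow d₁ hd₁', one_mul] at h5
    exact h5.symm
  have h5 : (z : G) ∈ D := S.mem_of_ker hz1 (k := n) (by
    have := congrArg (fun t : X => (t : G)) h4
    simpa using this)
  have h6 := congrArg (fun t : X => (t : G)) h2
  simp only [coe_mul, coe_inv] at h6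
  change (Y : G) * (d' : G) * (Y : G)⁻¹ ∈ D
  rw [h6]
  exact D.mul_mem hd₁' h5

theorem conj_pow_mem {d : G} (hd : d ∈ D) (j : ℕ) : (Y : G) ^ j * d * ((Y : G) ^ j)⁻¹ ∈ D := by
  induction j with
  | zero => simpa using hd
  | succ j ih =>
    have : (Y : G) ^ (j + 1) * d * ((Y : G) ^ (j + 1))⁻¹ = (Y : G) * ((Y : G) ^ j * d * ((Y : G) ^ j)⁻¹) * (Y : G)⁻¹ := by
      rw [pow_succ']
      group
    rw [this]
    exact S.conj_mem ih

/-- two elements of `D` commute or anticommute -/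
theorem comm_or (Φ : Frame G A) {a b : X} (ha : (a : G) ∈ D) (hb : (b : G) ∈ D) :
    a * b = b * a ∨ Φ.ι a * Φ.ι b = -(Φ.ι b * Φ.ι a) := by
  set c : X := a * b * a⁻¹ * b⁻¹ with hc
  have hc1 : π c = 1 := by
    rw [hc, map_mul, map_mul, map_mul, S.img_comm ha hb, map_inv, map_inv, mul_inv_cancel_right, mul_inv_cancel]
  have hcc : ∀ g : G, g * (c : G) = c * g := S.hker c hc1
  have hcX : ∀ g : X, g * c = c * g := fun g => Subtype.ext (hcc g)
  have haa : ∀ g : X, g * (a * a) = a * a * g := fun g => Subtype.ext (S.hker _ (S.exp ha) g)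
  have hab : a * b = c * (b * a) := by
    rw [hc]
    group
  have h1 : c * c = 1 := by
    have h2 : a * a * b = c * c * (b * (a * a)) := by
      calc a * a * b = a * (a * b) := mul_assoc _ _ _
        _ = a * c * (b * a) := by rw [hab, ← mul_assoc]
        _ = c * (a * b) * a := by rw [hcX a, mul_assoc c a (b * a), ← mul_assoc a b a, ← mul_assoc]
        _ = c * c * (b * (a * a)) := by
          rw [hab]
          simp only [mul_assoc]
    rw [← haa b] at h2
    exact (mul_eq_right.1 h2.symm)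
  rcases Φ.cent (c : G) hcc (by
    have := congrArg (fun t : X => (t : G)) h1
    simpa using this) with h2 | h2
  · left
    have h3 : c = 1 := Subtype.ext h2
    rw [h3, one_mul] at hab
    exact hab
  · right
    have h3 := congrArg (fun t : X => Φ.ι (t : G)) hab
    simp only [coe_mul, map_mul] at h3
    rw [h3, h2, neg_mul, one_mul]

/-- `1 + e` normalises `D` -/
theorem one_add (Φ : Frame G A) {e d : X} (he : (e : G) ∈ D) (hd : (d : G) ∈ D)
    (hE : Φ.ι (e : G) * Φ.ι (e : G) = -1) :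
    ∃ d₁ : X, (d₁ : G) ∈ D ∧ (1 + Φ.ι (e : G)) * Φ.ι (d : G) = Φ.ι (d₁ : G) * (1 + Φ.ι (e : G)) := by
  rcases S.comm_or Φ he hd with h | h
  · refine ⟨d, hd, ?_⟩
    have h3 := congrArg (fun t : X => Φ.ι (t : G)) h
    simp only [coe_mul, map_mul] at h3
    rw [add_mul, one_mul, mul_add, mul_one, h3]
  · refine ⟨e * d, by rw [coe_mul]; exact D.mul_mem he hd, ?_⟩
    rw [coe_mul, map_mul, add_mul, one_mul, mul_add, mul_one, h, neg_mul, mul_assoc, hE, mul_neg, mul_one, neg_neg,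
      add_comm]

end SD

theorem Frame.inv_eq_neg (Φ : Frame G A) {g : G} (h : Φ.ι g * Φ.ι g = -1) : Φ.ι g⁻¹ = -Φ.ι g := by
  calc Φ.ι g⁻¹ = Φ.ι g⁻¹ * -(Φ.ι g * Φ.ι g) := by rw [h, neg_neg, mul_one]
    _ = -(Φ.ι g⁻¹ * Φ.ι g * Φ.ι g) := by rw [mul_neg, mul_assoc]
    _ = -Φ.ι g := by rw [Φ.ι_inv_mul, one_mul]

theorem Frame.h_mul_add (Φ : Frame G A) (a : A) : Φ.h * (a + a) = a := by
  rw [mul_add, ← add_mul, Φ.h_add, one_mul]

theorem one_add_mul_one_sub {E : A} (hE : E * E = -1) : (1 + E) * (1 - E) = 1 + 1 := by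
  rw [mul_sub, mul_one, add_mul, one_mul, hE]
  abel

theorem one_sub_mul_one_add {E : A} (hE : E * E = -1) : (1 - E) * (1 + E) = 1 + 1 := by
  rw [mul_add, mul_one, sub_mul, one_mul, hE]
  abel

/-- the key step -/
theorem SD.key (S : SD π D x y Y) (Φ : Frame G A) {C : Type*} [CommMonoid C] (dt : Φ.Dt X C) {e f : X}
    (he : (e : G) ∈ D) (hf : (f : G) ∈ D) (hE : Φ.ι (e : G) * Φ.ι (e : G) = -1)
    (hF : Φ.ι (f : G) * Φ.ι (f : G) = -1) (hef : e * f = f * e) (t : G) (ht : (f : G) = t * e * t⁻¹) :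
    π e = π f := by
  have hEi := Φ.inv_eq_neg hE
  have hFi := Φ.inv_eq_neg hF
  have hcEF : Commute (Φ.ι (e : G)) (Φ.ι (f : G)) := by
    have h3 := congrArg (fun t : X => Φ.ι (t : G)) hef
    simp only [coe_mul, map_mul] at h3
    exact h3
  set E := Φ.ι (e : G) with hEd
  set F := Φ.ι (f : G) with hFd
  have had : Φ.Ad (Φ.h * ((1 + E) * (1 - F))) (((1 + F) * (1 - E)) * Φ.h) := by
    have h1 := Φ.ad_mul Φ.ad_h (Φ.ad_mul (Φ.ad_add Φ.ad_one (Φ.ad_ι (e : G)))
      (Φ.ad_add Φ.ad_one (Φ.ad_ι ((f : G)⁻¹))))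
    rw [inv_inv, hEi, hFi, ← sub_eq_add_neg, ← sub_eq_add_neg] at h1
    exact h1
  have h2c : ∀ a : A, a * (1 + 1) = (1 + 1) * a := fun a => by rw [mul_add, add_mul, mul_one, one_mul]
  have hh2 : Φ.h * (1 + 1) = 1 := Φ.h_mul_add 1
  have h2h : (1 + 1) * Φ.h = 1 := by rw [← h2c, hh2]
  have haa' : Φ.h * ((1 + E) * (1 - F)) * (((1 + F) * (1 - E)) * Φ.h) = 1 := by
    calc Φ.h * ((1 + E) * (1 - F)) * (((1 + F) * (1 - E)) * Φ.h)
        = Φ.h * ((1 + E) * ((1 - F) * (1 + F)) * (1 - E)) * Φ.h := by simp only [mul_assoc]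
      _ = Φ.h * ((1 + 1) * ((1 + E) * (1 - E))) * Φ.h := by
        rw [one_sub_mul_one_add hF, h2c, mul_assoc (1 + 1 : A)]
      _ = (Φ.h * (1 + 1)) * ((1 + 1) * Φ.h) := by
        rw [one_add_mul_one_sub hE]
        simp only [mul_assoc]
      _ = 1 := by rw [hh2, h2h, one_mul]
  have ha'a : ((1 + F) * (1 - E)) * Φ.h * (Φ.h * ((1 + E) * (1 - F))) = 1 := by
    calc ((1 + F) * (1 - E)) * Φ.h * (Φ.h * ((1 + E) * (1 - F)))
        = (1 + F) * ((1 - E) * ((Φ.h * Φ.h) * (1 + E))) * (1 - F) := by simp only [mul_assoc]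
      _ = (1 + F) * ((1 - E) * (1 + E) * (Φ.h * Φ.h)) * (1 - F) := by
        rw [mul_assoc Φ.h Φ.h, Φ.h_comm (1 + E), ← mul_assoc Φ.h, Φ.h_comm (1 + E)]
        simp only [mul_assoc]
      _ = (1 + F) * Φ.h * (1 - F) := by
        rw [one_sub_mul_one_add hE, ← mul_assoc (1 + 1 : A), h2h, one_mul]
      _ = Φ.h * ((1 + F) * (1 - F)) := by rw [← Φ.h_comm (1 + F), mul_assoc]
      _ = 1 := by rw [one_add_mul_one_sub hF, hh2]
  obtain ⟨u, hu⟩ := Φ.lift had haa' ha'a
  -- the determinant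
  have hdet : u ∈ X := by
    rw [dt.mem, hu]
    have h1 : dt.Det (1 + F) = dt.Det (1 + E) := by
      have h2 : 1 + F = Φ.ι t * (1 + E) * Φ.ι t⁻¹ := by
        rw [mul_add, mul_one, add_mul, Φ.ι_mul_inv, hFd, ht, map_mul, map_mul]
      rw [h2, map_mul, map_mul, mul_right_comm, ← map_mul, Φ.ι_mul_inv, map_one, one_mul]
    have h3 : dt.Det (Φ.h * ((1 + E) * (1 - F))) * dt.Det (1 + F) = dt.Det (1 + E) := by
      rw [← map_mul]
      congr 1
      rw [mul_assoc, mul_assoc, one_sub_mul_one_add hF, h2c, ← mul_assoc, hh2, one_mul]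
    have h4 : dt.Det (1 + E) * dt.Det ((1 - E) * Φ.h) = 1 := by
      rw [← map_mul, ← mul_assoc, one_add_mul_one_sub hE, h2h, map_one]
    rw [h1] at h3
    calc dt.Det (Φ.h * ((1 + E) * (1 - F)))
        = dt.Det (Φ.h * ((1 + E) * (1 - F))) * dt.Det (1 + E) * dt.Det ((1 - E) * Φ.h) := by
          rw [mul_assoc, h4, mul_one]
      _ = 1 := by rw [h3, h4]
  -- `u` commutes with `x`
  have hux : u * x = x * u := by
    apply Φ.inj
    have hxE : Commute E (Φ.ι x) := by
      have := congrArg Φ.ι (S.comm _ he)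
      rwa [map_mul, map_mul] at this
    have hxF : Commute F (Φ.ι x) := by
      have := congrArg Φ.ι (S.comm _ hf)
      rwa [map_mul, map_mul] at this
    rw [map_mul, map_mul, hu]
    have h1 : Commute Φ.h (Φ.ι x) := Φ.h_comm _
    exact (h1.mul_left (((Commute.one_left _).add_left hxE).mul_left ((Commute.one_left _).sub_left hxF))).eq
  -- `u` normalises `D`
  have hun : ∀ d ∈ D, u * d * u⁻¹ ∈ D := by
    intro d hd
    obtain ⟨d₁, hd₁, h1⟩ := S.one_add Φ (e := f⁻¹) (d := ⟨d, S.le hd⟩) (by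
      rw [coe_inv]
      exact D.inv_mem hf) hd (by rw [coe_inv, hFi, neg_mul_neg, hF])
    rw [coe_inv, hFi, ← sub_eq_add_neg] at h1
    change (1 - F) * Φ.ι d = Φ.ι d₁ * (1 - F) at h1
    obtain ⟨d₂, hd₂, h2⟩ := S.one_add Φ (e := e) (d := d₁) he hd₁ hE
    change (1 + E) * Φ.ι d₁ = Φ.ι d₂ * (1 + E) at h2
    have h3 : u * d = d₂ * u := by
      apply Φ.inj
      rw [map_mul, map_mul, hu]
      calc Φ.h * ((1 + E) * (1 - F)) * Φ.ι d = Φ.h * ((1 + E) * ((1 - F) * Φ.ι d)) := by simp only [mul_assoc]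
        _ = Φ.h * ((1 + E) * Φ.ι d₁ * (1 - F)) := by rw [h1]; simp only [mul_assoc]
        _ = Φ.h * Φ.ι d₂ * ((1 + E) * (1 - F)) := by rw [h2]; simp only [mul_assoc]
        _ = Φ.ι d₂ * (Φ.h * ((1 + E) * (1 - F))) := by rw [Φ.h_comm (Φ.ι d₂), mul_assoc]
    rw [h3, mul_inv_cancel_right]
    exact hd₂
  -- the square of `u`
  have huu : u * u = e * (f : G)⁻¹ := by
    apply Φ.inj
    rw [map_mul, map_mul, hu, hFi]
    have h1 : (1 + E) * (1 + E) = E + E := by
      rw [mul_add, mul_one, add_mul, one_mul, hE]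
      abel
    have h2 : (1 - F) * (1 - F) = -(F + F) := by
      rw [mul_sub, mul_one, sub_mul, one_mul, hF]
      abel
    have h3 : (1 - F) * (1 + E) = (1 + E) * (1 - F) := by
      have : Commute (1 - F) (1 + E) :=
        ((Commute.one_left _).sub_left ((Commute.one_right _).add_right hcEF.symm))
      exact this.eq
    calc Φ.h * ((1 + E) * (1 - F)) * (Φ.h * ((1 + E) * (1 - F)))
        = Φ.h * ((1 + E) * (1 - F) * Φ.h) * ((1 + E) * (1 - F)) := by simp only [mul_assoc]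
      _ = Φ.h * (Φ.h * ((1 + E) * (1 - F))) * ((1 + E) * (1 - F)) := by rw [← Φ.h_comm ((1 + E) * (1 - F))]
      _ = Φ.h * (Φ.h * ((1 + E) * ((1 - F) * (1 + E)) * (1 - F))) := by simp only [mul_assoc]
      _ = Φ.h * (Φ.h * ((1 + E) * (1 + E)) * ((1 - F) * (1 - F))) := by
        rw [h3]
        simp only [mul_assoc]
      _ = Φ.h * (E * -(F + F)) := by rw [h1, h2, Φ.h_mul_add]
      _ = Φ.h * (E * -F + E * -F) := by rw [neg_add, mul_add]
      _ = E * -F := Φ.h_mul_add _
  have hup : IsPGroup 2 (zpowers u) := by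
    obtain ⟨n, hn⟩ := IsPGroup.iff_card.1 S.pg
    have h1 : (u * u) ^ 2 ^ n = 1 := by
      have h2 : u * u ∈ D := by
        rw [huu]
        exact D.mul_mem he (D.inv_mem hf)
      have := pow_card_eq_one' (x := (⟨u * u, h2⟩ : D))
      rw [hn] at this
      have h3 := congrArg (fun t : D => (t : G)) this
      simpa using h3
    have h2 : u ^ 2 ^ (n + 1) = 1 := by
      rw [pow_succ', pow_mul, pow_two]
      exact h1
    rintro ⟨_, ⟨j, rfl⟩⟩
    refine ⟨n + 1, ?_⟩
    apply Subtype.ext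
    change (u ^ j) ^ 2 ^ (n + 1) = 1
    rw [← zpow_natCast, ← zpow_mul, mul_comm, zpow_mul, zpow_natCast, h2, one_zpow]
  have hnorm : zpowers u ≤ Subgroup.normalizer (D : Set G) := by
    rw [zpowers_le, mem_normalizer_iff]
    have hfin : ∀ d ∈ D, u⁻¹ * d * u ∈ D := by
      intro d hd
      have hc : (fun a : D => (⟨u * a * u⁻¹, hun a a.2⟩ : D)).Injective := by
        intro a b hab
        have h3 := congrArg (fun t : D => (t : G)) hab
        simp only [mul_left_inj, mul_right_inj] at h3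
        exact Subtype.ext h3
      obtain ⟨a, ha⟩ := (Finite.surjective_of_injective hc) ⟨d, hd⟩
      have h3 := congrArg (fun t : D => (t : G)) ha
      simp only at h3
      rw [← h3]
      have : u⁻¹ * (u * a * u⁻¹) * u = a := by group
      rw [this]
      exact a.2
    intro d
    refine ⟨fun hd => hun d hd, fun hd => ?_⟩
    have := hfin _ hd
    have h3 : u⁻¹ * (u * d * u⁻¹) * u = d := by group
    rwa [h3] at this
  have hQ : IsPGroup 2 ↥(D ⊔ zpowers u) := S.pg.to_sup_of_normal_left' hup hnorm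
  have h1 : D ⊔ zpowers u ≤ X := sup_le S.le (by rwa [zpowers_le])
  have h2 : ∀ q ∈ D ⊔ zpowers u, q * x = x * q := by
    have h3 : D ⊔ zpowers u ≤ centralizer {x} := by
      refine sup_le ?_ ?_
      · intro d hd
        rw [mem_centralizer_singleton_iff]
        exact S.comm d hd
      · rw [zpowers_le, mem_centralizer_singleton_iff]
        exact hux
    intro q hq
    exact mem_centralizer_singleton_iff.1 (h3 hq)
  have hu' : u ∈ D := S.max _ h1 hQ le_sup_left h2 (mem_sup_right (mem_zpowers _))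
  have h3 := S.exp (d := ⟨u, hdet⟩) hu'
  have h4 : (⟨u, hdet⟩ * ⟨u, hdet⟩ : X) = e * f⁻¹ := Subtype.ext huu
  rw [h4, map_mul, map_inv, mul_inv_eq_one] at h3
  exact h3

/-- the elements `e` of `D` with `e ^ 2 = -1` are in the kernel -/
theorem SD.sq_neg (S : SD π D x y Y) (Φ : Frame G A) {C : Type*} [CommMonoid C] (dt : Φ.Dt X C) {e : X}
    (he : (e : G) ∈ D) (hE : Φ.ι (e : G) * Φ.ι (e : G) = -1) : π e = 1 := by
  by_contra hne
  -- the conjugates
  have hcj : ∀ j : ℕ, ((Y ^ j * e * (Y ^ j)⁻¹ : X) : G) ∈ D := fun j => by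
    have := S.conj_pow_mem he j
    simpa using this
  have hsq : ∀ j : ℕ, Φ.ι ((Y ^ j * e * (Y ^ j)⁻¹ : X) : G) * Φ.ι ((Y ^ j * e * (Y ^ j)⁻¹ : X) : G) = -1 := by
    intro j
    have h1 : ((Y ^ j * e * (Y ^ j)⁻¹ : X) : G) = (Y : G) ^ j * e * ((Y : G) ^ j)⁻¹ := by simp
    rw [h1, ← map_mul]
    have h2 : (Y : G) ^ j * e * ((Y : G) ^ j)⁻¹ * ((Y : G) ^ j * e * ((Y : G) ^ j)⁻¹) =
        (Y : G) ^ j * (e * e) * ((Y : G) ^ j)⁻¹ := by group
    rw [h2, map_mul, map_mul, map_mul, hE, mul_neg, mul_one, neg_mul, Φ.ι_mul_inv]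
  have hpi : ∀ j : ℕ, π (Y ^ j * e * (Y ^ j)⁻¹) = y ^ j * π e * (y ^ j)⁻¹ := fun j => by
    rw [map_mul, map_mul, map_inv, map_pow, S.hY]
  -- no conjugate commutes with `e`
  have hnc : ∀ j : ℕ, j.Coprime 5 → Φ.ι (e : G) * Φ.ι ((Y ^ j * e * (Y ^ j)⁻¹ : X) : G) =
      -(Φ.ι ((Y ^ j * e * (Y ^ j)⁻¹ : X) : G) * Φ.ι (e : G)) := by
    intro j hj
    rcases S.comm_or Φ he (hcj j) with h | h
    · exfalso
      have h1 := S.key Φ dt he (hcj j) hE (hsq j) h ((Y : G) ^ j) (by simp)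
      rw [hpi] at h1
      exact hne (S.nofix_pow (mem_img he) hj h1.symm)
    · exact h
  set c : ℕ → X := fun j => Y ^ j * e * (Y ^ j)⁻¹ with hc
  have hcoe : ∀ j, ((c j : X) : G) = (Y : G) ^ j * e * ((Y : G) ^ j)⁻¹ := fun j => by simp [hc]
  have hanti : ∀ i j : ℕ, j.Coprime 5 → Φ.ι (c i : G) * Φ.ι (c (i + j) : G) = -(Φ.ι (c (i + j) : G) * Φ.ι (c i : G)) := by
    intro i j hj
    have h1 : Φ.ι (c i : G) = Φ.ι ((Y : G) ^ i) * Φ.ι (e : G) * Φ.ι ((Y : G) ^ i)⁻¹ := by
      rw [hcoe, map_mul, map_mul]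
    have h2 : Φ.ι (c (i + j) : G) = Φ.ι ((Y : G) ^ i) * Φ.ι (c j : G) * Φ.ι ((Y : G) ^ i)⁻¹ := by
      rw [← map_mul, ← map_mul, hcoe, hcoe]
      congr 1
      rw [pow_add]
      group
    rw [h1, h2]
    have h3 := Φ.ι_inv_mul ((Y : G) ^ i)
    calc Φ.ι ((Y : G) ^ i) * Φ.ι (e : G) * Φ.ι ((Y : G) ^ i)⁻¹ *
          (Φ.ι ((Y : G) ^ i) * Φ.ι (c j : G) * Φ.ι ((Y : G) ^ i)⁻¹)
        = Φ.ι ((Y : G) ^ i) * (Φ.ι (e : G) * (Φ.ι ((Y : G) ^ i)⁻¹ * Φ.ι ((Y : G) ^ i)) * Φ.ι (c j : G)) *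
          Φ.ι ((Y : G) ^ i)⁻¹ := by simp only [mul_assoc]
      _ = Φ.ι ((Y : G) ^ i) * (-(Φ.ι (c j : G) * Φ.ι (e : G))) * Φ.ι ((Y : G) ^ i)⁻¹ := by
        rw [h3, mul_one, hnc j hj]
      _ = -(Φ.ι ((Y : G) ^ i) * (Φ.ι (c j : G) * (Φ.ι ((Y : G) ^ i)⁻¹ * Φ.ι ((Y : G) ^ i)) * Φ.ι (e : G)) *
          Φ.ι ((Y : G) ^ i)⁻¹) := by rw [h3, mul_one, mul_neg, neg_mul]
      _ = _ := by simp only [mul_assoc]
  have h01 := hanti 0 1 (by decide)
  have h02 := hanti 0 2 (by decide)
  have h03 := hanti 0 3 (by decide)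
  have h12 := hanti 1 1 (by decide)
  have h13 := hanti 1 2 (by decide)
  have h23 := hanti 2 1 (by decide)
  norm_num only at h01 h02 h03 h12 h13 h23
  set E0 := Φ.ι (c 0 : G) with hE0
  set E1 := Φ.ι (c 1 : G) with hE1
  set E2 := Φ.ι (c 2 : G) with hE2
  set E3 := Φ.ι (c 3 : G) with hE3
  have hw : Φ.ι ((c 0 * c 1 : X) : G) * Φ.ι ((c 0 * c 1 : X) : G) = -1 := by
    rw [coe_mul, map_mul]
    change E0 * E1 * (E0 * E1) = -1
    have h10 : E1 * E0 = -(E0 * E1) := by rw [h01, neg_neg]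
    calc E0 * E1 * (E0 * E1) = E0 * (E1 * E0) * E1 := by simp only [mul_assoc]
      _ = -(E0 * E0 * (E1 * E1)) := by
        rw [h10]
        simp only [mul_neg, neg_mul, mul_assoc]
      _ = -1 := by
        rw [show E0 * E0 = -1 from hsq 0, show E1 * E1 = -1 from hsq 1, neg_mul_neg, one_mul]
  have hw' : Φ.ι ((c 2 * c 3 : X) : G) * Φ.ι ((c 2 * c 3 : X) : G) = -1 := by
    rw [coe_mul, map_mul]
    change E2 * E3 * (E2 * E3) = -1
    have h10 : E3 * E2 = -(E2 * E3) := by rw [h23, neg_neg]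
    calc E2 * E3 * (E2 * E3) = E2 * (E3 * E2) * E3 := by simp only [mul_assoc]
      _ = -(E2 * E2 * (E3 * E3)) := by
        rw [h10]
        simp only [mul_neg, neg_mul, mul_assoc]
      _ = -1 := by
        rw [show E2 * E2 = -1 from hsq 2, show E3 * E3 = -1 from hsq 3, neg_mul_neg, one_mul]
  have hcomm : c 0 * c 1 * (c 2 * c 3) = c 2 * c 3 * (c 0 * c 1) := by
    apply Subtype.ext
    apply Φ.inj
    simp only [coe_mul, map_mul]
    change E0 * E1 * (E2 * E3) = E2 * E3 * (E0 * E1)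
    calc E0 * E1 * (E2 * E3) = E0 * (E1 * E2) * E3 := by simp only [mul_assoc]
      _ = -(E0 * E2 * (E1 * E3)) := by
        rw [h12]
        simp only [mul_neg, neg_mul, mul_assoc]
      _ = -(E2 * E0 * (E3 * E1)) := by
        rw [h02, h13, neg_mul_neg]
      _ = -(E2 * (E0 * E3) * E1) := by simp only [mul_assoc]
      _ = E2 * E3 * (E0 * E1) := by
        rw [h03]
        simp only [mul_neg, neg_mul, mul_assoc, neg_neg]
  have hmem : ∀ j, (c j : G) ∈ D := hcj
  have hconj : c 2 * c 3 = Y ^ 2 * (c 0 * c 1) * (Y ^ 2)⁻¹ := by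
    simp only [hc]
    group
  have hkey := S.key Φ dt (e := c 0 * c 1) (f := c 2 * c 3) (by rw [coe_mul]; exact D.mul_mem (hmem 0) (hmem 1))
    (by rw [coe_mul]; exact D.mul_mem (hmem 2) (hmem 3)) hw hw' hcomm ((Y : G) ^ 2) (by
      have := congrArg (fun t : X => (t : G)) hconj
      simp only [coe_mul, coe_inv, coe_pow] at this
      simp only [coe_mul]
      exact this)
  have h1 : π (c 0 * c 1) = 1 := by
    apply S.nofix_pow (j := 2) (mem_img (by rw [coe_mul]; exact D.mul_mem (hmem 0) (hmem 1))) (by decide)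
    rw [← S.hY, ← map_pow, ← map_mul, ← map_inv, ← map_mul, hkey, hconj]
  have h2 : π (c 1) = y * π e * y⁻¹ := by
    have : π (c 1) = y ^ 1 * π e * (y ^ 1)⁻¹ := hpi 1
    rw [this, pow_one]
  have h3 : π (c 0) = π e := by simp [hc]
  rw [map_mul, h2, h3] at h1
  have h4 := S.e16.inv _ (mem_img (π := π) he)
  have h5 : y * π e * y⁻¹ = π e := by
    have h6 : (π e)⁻¹ = π e := inv_eq_of_mul_eq_one_left h4
    have h7 := eq_inv_of_mul_eq_one_right h1
    rw [h7, h6]
  exact hne (S.nofix (mem_img he) h5)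

/-- a nontrivial 2-element of the kernel has a power `-1` -/
theorem SD.inv_pow (S : SD π D x y Y) (Φ : Frame G A) {z : X} (hz : (z : G) ∈ D) (hz1 : π z = 1) (hne : z ≠ 1) :
    ∃ k : ℕ, Φ.ι ((z ^ 2 ^ k : X) : G) = -1 := by
  obtain ⟨n, hn⟩ := IsPGroup.iff_card.1 S.pg
  have hpow : z ^ 2 ^ n = 1 := by
    have := pow_card_eq_one' (x := (⟨(z : G), hz⟩ : D))
    rw [hn] at this
    have h2 := congrArg (fun t : D => (t : G)) this
    exact Subtype.ext (by simpa using h2)
  classical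
  have hex : ∃ n : ℕ, z ^ 2 ^ n = 1 := ⟨n, hpow⟩
  set k := Nat.find hex with hk
  have hk1 : z ^ 2 ^ k = 1 := Nat.find_spec hex
  have hk0 : k ≠ 0 := by
    intro h0
    rw [h0, pow_zero, pow_one] at hk1
    exact hne hk1
  obtain ⟨j, hj⟩ := Nat.exists_eq_succ_of_ne_zero hk0
  have hj1 : z ^ 2 ^ j ≠ 1 := Nat.find_min hex (by omega)
  refine ⟨j, ?_⟩
  have hπ : π (z ^ 2 ^ j) = 1 := by rw [map_pow, hz1, one_pow]
  rcases Φ.cent ((z ^ 2 ^ j : X) : G) (S.hker _ hπ) (by
    rw [← coe_mul, ← pow_add, ← two_mul, ← pow_succ', ← Nat.succ_eq_add_one, ← hj, hk1]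
    rfl) with h | h
  · exact absurd (Subtype.ext h) hj1
  · exact h

/-- all squares are squares of elements of the kernel -/
theorem SD.squares (S : SD π D x y Y) (Φ : Frame G A)
    (H : ∀ a b : X, (a : G) ∈ D → (b : G) ∈ D → ∃ s : X, (s : G) ∈ D ∧ π s = 1 ∧
      a * b * (a * b) = s * s * ((a * a) * (b * b))) {d : X} (hd : (d : G) ∈ D) :
    ∃ z : X, (z : G) ∈ D ∧ π z = 1 ∧ d * d = z * z := by
  have hkX : ∀ z : X, π z = 1 → ∀ g : X, g * z = z * g := fun z hz g => Subtype.ext (S.hker z hz g)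
  let D0 : Subgroup X :=
    { carrier := {d | (d : G) ∈ D ∧ ∃ z : X, (z : G) ∈ D ∧ π z = 1 ∧ d * d = z * z}
      one_mem' := ⟨by simp, 1, by simp, map_one _, rfl⟩
      mul_mem' := by
        rintro a b ⟨ha, z₁, hz₁, hp₁, h₁⟩ ⟨hb, z₂, hz₂, hp₂, h₂⟩
        obtain ⟨s, hs, hps, h⟩ := H a b ha hb
        refine ⟨by rw [coe_mul]; exact D.mul_mem ha hb, s * (z₁ * z₂), ?_, ?_, ?_⟩
        · rw [coe_mul, coe_mul]
          exact D.mul_mem hs (D.mul_mem hz₁ hz₂)
        · rw [map_mul, map_mul, hps, hp₁, hp₂, one_mul, one_mul]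
        · rw [h, h₁, h₂]
          have e1 : Commute s (z₁ * z₂) := (hkX s hps (z₁ * z₂)).symm
          have e2 : Commute z₁ z₂ := (hkX z₁ hp₁ z₂).symm
          calc s * s * (z₁ * z₁ * (z₂ * z₂)) = s * s * (z₁ * (z₁ * z₂) * z₂) := by simp only [mul_assoc]
            _ = s * s * (z₁ * (z₂ * z₁) * z₂) := by rw [e2.eq]
            _ = s * s * (z₁ * z₂ * (z₁ * z₂)) := by simp only [mul_assoc]
            _ = s * (s * (z₁ * z₂)) * (z₁ * z₂) := by simp only [mul_assoc]
            _ = s * (z₁ * z₂ * s) * (z₁ * z₂) := by rw [e1.eq]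
            _ = _ := by simp only [mul_assoc]
      inv_mem' := by
        rintro a ⟨ha, z, hz, hp, h⟩
        refine ⟨by rw [coe_inv]; exact D.inv_mem ha, z⁻¹, by rw [coe_inv]; exact D.inv_mem hz, by rw [map_inv, hp, inv_one], ?_⟩
        rw [← mul_inv_rev, h, mul_inv_rev] }
  have hD0 : ∀ d : X, d ∈ D0 ↔ ((d : G) ∈ D ∧ ∃ z : X, (z : G) ∈ D ∧ π z = 1 ∧ d * d = z * z) := fun d => Iff.rfl
  have h1 : D0.map π ≤ (D.subgroupOf X).map π := by
    rintro _ ⟨a, ha, rfl⟩
    exact mem_img ((hD0 a).1 ha).1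
  have h2 : ∀ a ∈ D0.map π, y * a * y⁻¹ ∈ D0.map π := by
    rintro _ ⟨a, ha, rfl⟩
    obtain ⟨ha1, z, hz, hp, h⟩ := (hD0 a).1 ha
    refine ⟨Y * a * Y⁻¹, ?_, by rw [map_mul, map_mul, map_inv, S.hY]⟩
    refine (hD0 _).2 ⟨by simpa using S.conj_mem ha1, z, hz, hp, ?_⟩
    have e1 : Y * a * Y⁻¹ * (Y * a * Y⁻¹) = Y * (a * a) * Y⁻¹ := by group
    rw [e1, h, ← mul_assoc, hkX z hp Y, mul_assoc z, hkX z hp Y, ← mul_assoc, mul_inv_cancel_right]
  rcases S.five.irr _ h1 h2 with h3 | h3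
  · exfalso
    classical
    -- an element with nontrivial image
    obtain ⟨v, hv, hv1⟩ : ∃ v ∈ (D.subgroupOf X).map π, v ≠ 1 := by
      by_contra hcon
      push Not at hcon
      have h4 : (D.subgroupOf X).map π = ⊥ := by
        rw [eq_bot_iff]
        intro v hv
        exact mem_bot.2 (hcon v hv)
      have h5 := S.e16.card
      rw [h4, Subgroup.card_bot] at h5
      omega
    obtain ⟨a, ha, rfl⟩ := hv
    have ha' : (a : G) ∈ D := by simpa [mem_subgroupOf] using ha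
    have hnot : ∀ b : X, π b ≠ 1 → b ∉ D0 := by
      intro b hb hb0
      have : π b ∈ D0.map π := ⟨b, hb0, rfl⟩
      rw [h3, mem_bot] at this
      exact hb this
    set b : X := Y * a * Y⁻¹ with hb
    have hbD : (b : G) ∈ D := by simpa [hb] using S.conj_mem ha'
    have hπb : π b = y * π a * y⁻¹ := by rw [hb, map_mul, map_mul, map_inv, S.hY]
    have hb1 : π b ≠ 1 := by
      intro h
      rw [hπb, mul_inv_eq_one, mul_eq_left] at h
      exact hv1 h
    have hab1 : π (a * b) ≠ 1 := by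
      intro h
      rw [map_mul] at h
      have h4 := eq_inv_of_mul_eq_one_right h
      have h6 : (π a)⁻¹ = π a := inv_eq_of_mul_eq_one_left (S.e16.inv _ (mem_img ha'))
      rw [h6, hπb] at h4
      exact hv1 (S.nofix (mem_img ha') h4)
    let Z : Subgroup X := (D.subgroupOf X) ⊓ π.ker
    have hZ : ∀ z : X, z ∈ Z ↔ ((z : G) ∈ D ∧ π z = 1) := fun z => by
      change (z ∈ D.subgroupOf X ∧ z ∈ π.ker) ↔ _
      rw [mem_subgroupOf, MonoidHom.mem_ker]
    let f : Z →* Z := MonoidHom.mk' (fun z => z * z) (by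
      intro a b
      have e : (a : X) * b = b * a := hkX b ((hZ b).1 b.2).2 a
      apply Subtype.ext
      change (a : X) * b * (a * b) = a * a * (b * b)
      rw [mul_assoc, ← mul_assoc (b : X) a b, ← e]
      simp only [mul_assoc])
    have hf : ∀ z : Z, f z = z * z := fun z => rfl
    have hker : Nat.card f.ker ≤ 2 := by
      have hinj : Function.Injective (fun z : f.ker => (decide ((z : Z) = 1) : Bool)) := by
        intro z z' h
        have hz : ∀ z : f.ker, (z : Z) = 1 ∨ Φ.ι (((z : Z) : X) : G) = -1 := by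
          intro z
          have h1 : (z : Z) * z = 1 := by
            rw [← hf]
            exact z.2
          have h2 := congrArg (fun t : Z => ((t : X) : G)) h1
          rcases Φ.cent (((z : Z) : X) : G) (S.hker _ ((hZ _).1 (z : Z).2).2) (by simpa using h2) with h3 | h3
          · left
            exact Subtype.ext (Subtype.ext h3)
          · exact Or.inr h3
        apply Subtype.ext
        by_cases h1 : (z : Z) = 1
        · by_cases h2 : (z' : Z) = 1
          · rw [h1, h2]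
          · simp [h1, h2] at h
        · by_cases h2 : (z' : Z) = 1
          · simp [h1, h2] at h
          · have e1 := (hz z).resolve_left h1
            have e2 := (hz z').resolve_left h2
            exact Subtype.ext (Subtype.ext (Φ.inj (e1.trans e2.symm)))
      have := Nat.card_le_card_of_injective _ hinj
      simpa using this
    have hidx : f.range.index ≤ 2 := by
      have e1 : Nat.card f.range * f.range.index = Nat.card Z := f.range.card_mul_index
      have e2 : Nat.card f.ker * f.ker.index = Nat.card Z := f.ker.card_mul_index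
      rw [index_ker] at e2
      have e3 : 0 < Nat.card f.range := Nat.card_pos
      have e4 : f.range.index = Nat.card f.ker := by
        apply Nat.eq_of_mul_eq_mul_left e3
        rw [e1, ← e2, mul_comm]
      rw [e4]
      exact hker
    have hsqZ : ∀ c : X, (c : G) ∈ D → c * c ∈ Z := fun c hc =>
      (hZ _).2 ⟨by rw [coe_mul]; exact D.mul_mem hc hc, S.exp hc⟩
    have hnr : ∀ c : X, ∀ hc : (c : G) ∈ D, π c ≠ 1 → (⟨c * c, hsqZ c hc⟩ : Z) ∉ f.range := by
      rintro c hc hc1 ⟨z, hz⟩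
      apply hnot c hc1
      refine (hD0 c).2 ⟨hc, z, ((hZ _).1 z.2).1, ((hZ _).1 z.2).2, ?_⟩
      have := congrArg (fun t : Z => (t : X)) hz
      exact this.symm
    have hidx2 : f.range.index = 2 := by
      have e0 : f.range.index ≠ 0 := index_ne_zero_of_finite
      have e1 : f.range.index ≠ 1 := by
        intro h
        rw [index_eq_one] at h
        apply hnr a ha' hv1
        rw [h]
        exact mem_top _
      omega
    have hin : (⟨a * a, hsqZ a ha'⟩ * ⟨b * b, hsqZ b hbD⟩ : Z) ∈ f.range := by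
      rw [mul_mem_iff_of_index_two hidx2]
      exact ⟨fun h => absurd h (hnr a ha' hv1), fun h => absurd h (hnr b hbD hb1)⟩
    obtain ⟨z, hz⟩ := hin
    have hz' : (z : X) * z = a * a * (b * b) := congrArg (fun t : Z => (t : X)) hz
    obtain ⟨s, hs, hps, h⟩ := H a b ha' hbD
    apply hnot (a * b) hab1
    refine (hD0 _).2 ⟨by rw [coe_mul]; exact D.mul_mem ha' hbD, s * z, ?_, ?_, ?_⟩
    · rw [coe_mul]
      exact D.mul_mem hs ((hZ _).1 z.2).1
    · rw [map_mul, hps, ((hZ _).1 z.2).2, one_mul]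
    · rw [h, ← hz']
      have e := hkX s hps (z : X)
      calc s * s * ((z : X) * z) = s * (s * z) * z := by simp only [mul_assoc]
        _ = s * (z * s) * z := by rw [e]
        _ = _ := by simp only [mul_assoc]
  · have h4 : π d ∈ D0.map π := by
      rw [h3]
      exact mem_img hd
    obtain ⟨d₀, hd₀, h5⟩ := h4
    obtain ⟨hd₀', z, hz, hp, h⟩ := (hD0 d₀).1 hd₀
    set t : X := d₀⁻¹ * d with ht
    have ht1 : π t = 1 := by rw [ht, map_mul, map_inv, h5, inv_mul_cancel]
    have htD : (t : G) ∈ D := by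
      rw [ht, coe_mul, coe_inv]
      exact D.mul_mem (D.inv_mem hd₀') hd
    refine ⟨z * t, by rw [coe_mul]; exact D.mul_mem hz htD, by rw [map_mul, hp, ht1, one_mul], ?_⟩
    have hdt : d = d₀ * t := by rw [ht, mul_inv_cancel_left]
    have e := hkX t ht1
    calc d * d = d₀ * (t * d₀) * t := by rw [hdt]; simp only [mul_assoc]
      _ = d₀ * d₀ * (t * t) := by rw [← e d₀]; simp only [mul_assoc]
      _ = z * (z * t) * t := by rw [h]; simp only [mul_assoc]
      _ = z * (t * z) * t := by rw [e z]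
      _ = z * t * (z * t) := by simp only [mul_assoc]

end

/-- **T5** -/
theorem Frame.strD {G : Type u} [Group G] [Finite G] {A : Type v} [Ring A] (Φ : Frame G A) (X : Subgroup G)
    {C : Type*} [CommMonoid C] (dt : Φ.Dt X C) {K : Type w} [Group K] (π : X →* K) (hπ : Function.Surjective π)
    (hker : ∀ z : X, π z = 1 → ∀ g : G, g * z = z * g) : StrD X π := by
  intro D x hDX hDp hodd hcomm hmax h16 ⟨y, hy⟩
  obtain ⟨Y, hY⟩ := hπ y
  have S : SD π D x y Y := ⟨hker, hDX, hDp, hodd, hcomm, hmax, h16, hy, hY⟩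
  have hkX : ∀ z : X, π z = 1 → ∀ g : X, g * z = z * g := fun z hz g => Subtype.ext (hker z hz g)
  by_cases hab : ∀ a b : X, (a : G) ∈ D → (b : G) ∈ D → a * b = b * a
  · refine ⟨fun a ha b hb => congrArg (fun t : X => (t : G)) (hab ⟨a, hDX ha⟩ ⟨b, hDX hb⟩ ha hb), ?_⟩
    intro d hd
    obtain ⟨z, hz, hp, h⟩ := S.squares Φ (fun a b ha hb => ⟨1, by simp, map_one _, by
      have e := hab a b ha hb
      rw [one_mul, one_mul]
      calc a * b * (a * b) = a * (b * a) * b := by simp only [mul_assoc]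
        _ = _ := by rw [← e]; simp only [mul_assoc]⟩) (d := ⟨d, hDX hd⟩) hd
    refine ⟨z⁻¹, by rw [coe_inv]; exact D.inv_mem hz, by rw [map_inv, hp, inv_one], ?_⟩
    have e : d * ((z : X) : G)⁻¹ = ((z : X) : G)⁻¹ * d := by
      have h1 : Commute d (z : G) := hker z hp d
      exact h1.inv_right.eq
    have h1 : d * d = (z : G) * z := congrArg (fun t : X => (t : G)) h
    rw [coe_inv]
    calc d * (z : G)⁻¹ * (d * (z : G)⁻¹) = d * ((z : G)⁻¹ * d) * (z : G)⁻¹ := by simp only [mul_assoc]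
      _ = d * d * ((z : G)⁻¹ * (z : G)⁻¹) := by rw [← e]; simp only [mul_assoc]
      _ = 1 := by
        rw [h1]
        group
  · exfalso
    push Not at hab
    obtain ⟨a, b, ha, hb, hne⟩ := hab
    have hanti := (S.comm_or Φ ha hb).resolve_left hne
    have ha1 : π a ≠ 1 := fun h => hne (hkX a h b).symm
    have hb1 : π b ≠ 1 := fun h => hne (hkX b h a)
    by_cases hz : ∃ z : X, (z : G) ∈ D ∧ π z = 1 ∧ Φ.ι (z : G) * Φ.ι (z : G) = -1
    · obtain ⟨z, hz, hp, hzz⟩ := hz
      obtain ⟨z', hz', hp', h⟩ := S.squares Φ (fun a b ha hb => by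
        rcases S.comm_or Φ ha hb with e | e
        · refine ⟨1, by simp, map_one _, ?_⟩
          rw [one_mul, one_mul]
          calc a * b * (a * b) = a * (b * a) * b := by simp only [mul_assoc]
            _ = _ := by rw [← e]; simp only [mul_assoc]
        · refine ⟨z, hz, hp, ?_⟩
          apply Subtype.ext
          apply Φ.inj
          simp only [coe_mul, map_mul]
          rw [hzz]
          have e' : Φ.ι (b : G) * Φ.ι (a : G) = -(Φ.ι (a : G) * Φ.ι (b : G)) := by rw [e, neg_neg]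
          calc Φ.ι (a : G) * Φ.ι (b : G) * (Φ.ι (a : G) * Φ.ι (b : G))
              = Φ.ι (a : G) * (Φ.ι (b : G) * Φ.ι (a : G)) * Φ.ι (b : G) := by simp only [mul_assoc]
            _ = _ := by
              rw [e']
              simp only [mul_neg, neg_mul, mul_assoc, one_mul]) ha
      have hc' := hkX z' hp'
      have hc := hkX z hp
      have hee : a * z'⁻¹ * z * (a * z'⁻¹ * z) = z * z := by
        have e1 : Commute a z' := hc' a
        have e2 : Commute (a * z'⁻¹) z := hc _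
        calc a * z'⁻¹ * z * (a * z'⁻¹ * z) = a * z'⁻¹ * (z * (a * z'⁻¹)) * z := by simp only [mul_assoc]
          _ = a * z'⁻¹ * (a * z'⁻¹) * (z * z) := by rw [← e2.eq]; simp only [mul_assoc]
          _ = a * (z'⁻¹ * a) * z'⁻¹ * (z * z) := by simp only [mul_assoc]
          _ = a * a * (z'⁻¹ * z'⁻¹) * (z * z) := by rw [← e1.inv_right.eq]; simp only [mul_assoc]
          _ = z * z := by
            rw [h]
            group
      have hfin := S.sq_neg Φ dt (e := a * z'⁻¹ * z) (by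
        rw [coe_mul, coe_mul, coe_inv]
        exact D.mul_mem (D.mul_mem ha (D.inv_mem hz')) hz) (by
        rw [← map_mul, ← coe_mul, hee, coe_mul, map_mul]
        exact hzz)
      rw [map_mul, map_mul, map_inv, hp', hp, inv_one, mul_one, mul_one] at hfin
      exact ha1 hfin
    · have hone : ∀ c : X, (c : G) ∈ D → π c ≠ 1 → c * c = 1 := by
        intro c hc hc1
        by_contra hcc
        obtain ⟨k, hk⟩ := S.inv_pow Φ (z := c * c) (by rw [coe_mul]; exact D.mul_mem hc hc) (S.exp hc) hcc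
        rcases k with _ | k
        · rw [pow_zero, pow_one, coe_mul, map_mul] at hk
          exact hc1 (S.sq_neg Φ dt hc hk)
        · apply hz
          refine ⟨(c * c) ^ 2 ^ k, ?_, ?_, ?_⟩
          · rw [coe_pow, coe_mul]
            exact D.pow_mem (D.mul_mem hc hc) _
          · rw [map_pow, S.exp hc, one_pow]
          · rw [← map_mul, ← coe_mul, ← pow_add, ← two_mul, ← pow_succ']
            exact hk
      have ha2 := hone a ha ha1
      have hb2 := hone b hb hb1
      have hab2 := S.sq_neg Φ dt (e := a * b) (by rw [coe_mul]; exact D.mul_mem ha hb) (by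
        have e' : Φ.ι (b : G) * Φ.ι (a : G) = -(Φ.ι (a : G) * Φ.ι (b : G)) := by rw [hanti, neg_neg]
        have ea := congrArg (fun t : X => Φ.ι (t : G)) ha2
        have eb := congrArg (fun t : X => Φ.ι (t : G)) hb2
        simp only [coe_mul, coe_one, map_mul, map_one] at ea eb
        rw [coe_mul, map_mul]
        calc Φ.ι (a : G) * Φ.ι (b : G) * (Φ.ι (a : G) * Φ.ι (b : G))
            = Φ.ι (a : G) * (Φ.ι (b : G) * Φ.ι (a : G)) * Φ.ι (b : G) := by simp only [mul_assoc]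
          _ = -(Φ.ι (a : G) * Φ.ι (a : G) * (Φ.ι (b : G) * Φ.ι (b : G))) := by
            rw [e']
            simp only [mul_neg, neg_mul, mul_assoc]
          _ = -1 := by rw [ea, eb, one_mul])
      have h1 := hkX (a * b) hab2 b
      apply hne
      have h2 : b * (a * b) = b * a * b := by rw [mul_assoc]
      rw [h2] at h1
      exact (mul_right_cancel h1).symm

end Cfsg.Agent.H624.KS
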